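import Mathlib.RingTheory.PolynomialAlgebra
import Mathlib.AlgebraicGeometry.Pullbacks
import Mathlib.AlgebraicGeometry.Morphisms.OpenImmersion
import Mathlib.RingTheory.Localization.Away.Basic
import Mathlib.Algebra.Category.Ring.Constructions

/-!
# Cartesian squares for affine lines and localizations
-/

set_option autoImplicit false

universe u

open CategoryTheory CategoryTheory.Limits AlgebraicGeometry Polynomial

namespace Groth.Agent.Etdl.H161.PolySquare

attribute [local instance] Polynomial.algebra in
/-- The affine line commutes with base change. -/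
theorem isPullback_line {S L : Type u} [CommRing S] [CommRing L] (ψ : S →+* L) :
    IsPullback (Spec.map (CommRingCat.ofHom (Polynomial.mapRingHom ψ)))
      (Spec.map (CommRingCat.ofHom (Polynomial.C : L →+* L[X])))
      (Spec.map (CommRingCat.ofHom (Polynomial.C : S →+* S[X])))
      (Spec.map (CommRingCat.ofHom ψ)) := by
  let _ : Algebra S L := ψ.toAlgebra
  have h : IsPushout (CommRingCat.ofHom (algebraMap S S[X])) (CommRingCat.ofHom (algebraMap S L))
      (CommRingCat.ofHom (algebraMap S[X] L[X])) (CommRingCat.ofHom (algebraMap L L[X])) :=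
    CommRingCat.isPushout_of_isPushout S S[X] L L[X]
  exact isPullback_SpecMap_of_isPushout _ _ _ _ h

/-- If `φ : R → L` inverts `x`, then `Spec L → Spec R` is its own base change along `Spec R_x → Spec R`. -/
theorem isPullback_away {R S L : Type u} [CommRing R] [CommRing S] [CommRing L] [Algebra R S] (x : R)
    [IsLocalization.Away x S] (ψ : S →+* L) :
    IsPullback (Spec.map (CommRingCat.ofHom ψ)) (𝟙 _)
      (Spec.map (CommRingCat.ofHom (algebraMap R S)))
      (Spec.map (CommRingCat.ofHom (ψ.comp (algebraMap R S)))) := by
  have h1 : IsOpenImmersion (Spec.map (CommRingCat.ofHom (algebraMap R S))) :=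
    IsOpenImmersion.of_isLocalization x
  have h2 : Spec.map (CommRingCat.ofHom (ψ.comp (algebraMap R S))) =
      Spec.map (CommRingCat.ofHom ψ) ≫ Spec.map (CommRingCat.ofHom (algebraMap R S)) := by
    rw [← Spec.map_comp]
    rfl
  refine IsPullback.of_isLimit' ⟨by rw [h2, Category.id_comp]⟩
    (PullbackCone.IsLimit.mk _ (fun s => s.snd) (fun s => ?_) (fun s => ?_) (fun s m hm1 hm2 => ?_))
  · rw [← cancel_mono (Spec.map (CommRingCat.ofHom (algebraMap R S))), Category.assoc, ← h2]
    exact s.condition.symm
  · exact Category.comp_id _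
  · rw [← hm2]
    exact (Category.comp_id _).symm

end Groth.Agent.Etdl.H161.PolySquare
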