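import Groth.Agent.Etdl.H161.StalkVan
import Groth.Agent.Etdl.H428.RegBC

/-!
# Stalks of higher direct images and regular base change
-/

set_option autoImplicit false

universe u

open CategoryTheory CategoryTheory.Limits AlgebraicGeometry Opposite IsLocalRing

namespace Groth.Agent.Etdl.H161.RegStalk

/-- `R → L` regular, `L` strictly henselian, `S` an `R`-scheme, `g : Spec L ⟶ S` with
`S ×_R L = Spec L`: if `H^q(X ×_S L, F) = 0` then `R^q f_* F` vanishes at the image of the closed point. -/
theorem not_mem_supp_Rpush {R L : Type u} [CommRing R] [CommRing L] [IsNoetherianRing R]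
    [IsNoetherianRing L] [Algebra R L] (h : CAlg.IsRegularHom R L) [HenselianLocalRing L]
    [IsSepClosed (ResidueField L)] {S X X' : Scheme.{u}}
    (b : S ⟶ Spec (CommRingCat.of R)) (g : Spec (CommRingCat.of L) ⟶ S)
    (hS : IsPullback g (𝟙 _) b (Spec.map (CommRingCat.ofHom (algebraMap R L))))
    (f : X ⟶ S) [QuasiCompact f] [QuasiSeparated f] (f' : X' ⟶ Spec (CommRingCat.of L)) (g' : X' ⟶ X)
    (hsq : IsPullback g' f' f g) (F : EtCoh.Ab X) (hF : EtPBC.IsTorsionInvertibleOn S F) (q : ℕ)
    (hv : Subsingleton (EtCoh.H X' ((EtCoh.pull g').obj F) q)) :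
    g (closedPoint L) ∉ EtPBC.supp ((EtCoh.Rpush f q).obj F) := by
  have hq1 : QuasiCompact f' := MorphismProperty.of_isPullback hsq inferInstance
  have hq2 : QuasiSeparated f' := MorphismProperty.of_isPullback hsq inferInstance
  obtain ⟨⟨e⟩, -⟩ := H428.RegBC.baseChange_over_of_isRegularHom h b (𝟙 _) g hS f f' g' hsq F hF q
  exact StalkVan.not_mem_supp_Rpush_of_iso g f f' F _ q e hv

end Groth.Agent.Etdl.H161.RegStalk
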