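import Groth.Agent.EtpbcA.ArtinTransfer
import Groth.Agent.EtpbcB.StrictHensTransport

/-!
# Vanishing of a stalk of a higher direct image from a base change to a strictly henselian local ring
-/

set_option autoImplicit false

universe u

open CategoryTheory CategoryTheory.Limits AlgebraicGeometry Opposite IsLocalRing

namespace Groth.Agent.Etdl.H161.StalkVan

open Groth.Agent.EtpbcA.Artin Groth.Agent.EtpbcB

/-- If the pullback of `R^q f_* F` along `g : Spec L ⟶ S`, `L` strictly henselian local, is `R^q f'_* F'` and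
`H^q(X', F') = 0`, then the image of the closed point of `Spec L` is not in the support of `R^q f_* F`. -/
theorem not_mem_supp_Rpush_of_iso {L : Type u} [CommRing L] [HenselianLocalRing L]
    [IsSepClosed (ResidueField L)] {S X X' : Scheme.{u}} (g : Spec (CommRingCat.of L) ⟶ S)
    (f : X ⟶ S) (f' : X' ⟶ Spec (CommRingCat.of L)) [QuasiCompact f'] [QuasiSeparated f']
    (F : EtCoh.Ab X) (F' : EtCoh.Ab X') (q : ℕ)
    (e : (EtCoh.pull g).obj ((EtCoh.Rpush f q).obj F) ≅ (EtCoh.Rpush f' q).obj F')
    (hv : Subsingleton (EtCoh.H X' F' q)) :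
    g (closedPoint L) ∉ EtPBC.supp ((EtCoh.Rpush f q).obj F) := by
  intro h
  have h1 : (closedPoint L : Spec (CommRingCat.of L)) ∈
      EtPBC.supp ((EtCoh.pull g).obj ((EtCoh.Rpush f q).obj F)) := by
    rw [supp_pull]
    exact h
  rw [supp_congr e] at h1
  obtain ⟨_, _, _, h2⟩ := StrictHensTransport.exists_specOf_closedPoint L
  refine (not_mem_supp_Rpush_iff f' F' q (closedPoint L) L).2 ?_ h1
  rw [h2]
  exact (PBCVan.van_id f' F' q).2 hv

end Groth.Agent.Etdl.H161.StalkVan
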